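import Cfsg.Agent.H434.EP.ON
import Cfsg.Agent.H394.PBHe
import Cfsg.Agent.H289.Eight.He
import Cfsg.Agent.H68.RatB.Ru
import Cfsg.Agent.H169.PBSuzRu
import Cfsg.Agent.H870.IMRu

/-!
# S4929: the rows of `He` and `Ru` (helper541)

* `He`: the degree `4352 = 2^8 17` (`p = 3, 5, 7`), `1920 = 2^7 3 5` (`p = 17`);
* `Ru`: the degree `406 = 2 7 29` (`p = 3, 5`), cyclic Sylow subgroups with real elements (`p = 7, 13, 29`).
-/

set_option autoImplicit false
set_option maxRecDepth 100000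
set_option exponentiation.threshold 5000

open Cfsg Subgroup Cfsg.Agent.Characters.Core

namespace Cfsg.Agent.H541.EP

open Cfsg.Agent.H892.EP Cfsg.Agent.H709.PB

universe u

/-- the Sylow `p`-subgroups are of order `p`, a real element of order `p` -/
theorem evAt_of_real_sq {G : Type u} [Group G] [Finite G] {p : ℕ} [hp : Fact p.Prime] (hp2 : p ≠ 2)
    (hsq : ¬ p ^ 2 ∣ Nat.card G) {z : G} (hz : orderOf z = p) (hr : IsConj z z⁻¹) : EvAt p G := by
  refine evAt_of_real_cyclic hp2 (fun P => ?_) hz hr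
  obtain ⟨k, hk⟩ := P.isPGroup'.exists_card_eq
  have h1 : p ^ k ∣ Nat.card G := by
    rw [← hk]
    exact Subgroup.card_subgroup_dvd_card _
  have h2 : k < 2 := by
    by_contra hk2
    exact hsq ((pow_dvd_pow p (not_lt.1 hk2)).trans h1)
  interval_cases k
  · have := (Nat.card_eq_one_iff_unique.1 hk).1
    exact isCyclic_of_subsingleton
  · exact isCyclic_of_prime_card (by rw [hk, pow_one])

/-! ### `He` -/

section He

open Cfsg.Spor.He Cfsg.Agent.SporadicB.HePerm Cfsg.Agent.FixBN.HeStab Cfsg.Agent.H394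
open Cfsg.Agent.H492.IMHeCnt Cfsg.Agent.H492.IMHeDat Cfsg.Agent.H492.IMTools

theorem ev_he : Ev Cfsg.Spor.He := by
  intro p hp hp2 hd
  have : Finite Cfsg.Spor.He := Nat.finite_of_card_ne_zero (by rw [PBHe.card_he]; norm_num)
  have h3 : Fact (Nat.Prime 3) := ⟨by norm_num⟩
  have h5 : Fact (Nat.Prime 5) := ⟨by norm_num⟩
  have h7 : Fact (Nat.Prime 7) := ⟨by norm_num⟩
  have h17 : Fact (Nat.Prime 17) := ⟨by norm_num⟩
  have nb3 : NB 3 1 Spor.He := PBTools.nb_of_pair H492.IMHe.o3 H492.IMHe.oy3 (comm_of_chk (by decide +kernel))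
    (H492.IMHe.pair (p := 3) XB3 YB3 _ H492.IMHe.o3 H492.IMHe.oy3 (by decide +kernel) (by decide +kernel)
      (by norm_num) qB3).2
  have nb5 : NB 5 1 Spor.He := PBTools.nb_of_pair H492.IMHe.o5 H492.IMHe.oy5 (comm_of_chk (by decide +kernel))
    (H492.IMHe.pair (p := 5) XB5 YB5 _ H492.IMHe.o5 H492.IMHe.oy5 (by decide +kernel) (by decide +kernel)
      (by norm_num) qB5).2
  have nb7 : NB 7 1 Spor.He := PBTools.nb_of_pair H492.IMHe.o7 H492.IMHe.oy7 (comm_of_chk (by decide +kernel))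
    (H492.IMHe.pair (p := 7) XB7 YB7 _ H492.IMHe.o7 H492.IMHe.oy7 (by decide +kernel) (by decide +kernel)
      (by norm_num) qB7).2
  have nb17 : NB 17 1 Spor.He := NB.of_self (g := wd [.f, .d, .c, .b])
    (IsPGroup.of_card (n := 1) (by rw [H492.IMHe.card17, pow_one])) ⟨1, by rw [H492.IMHe.o17, pow_one]⟩
  have hc : p = 3 ∨ p = 5 ∨ p = 7 ∨ p = 17 := by
    rw [PBHe.card_he, show (4030387200 : ℕ) = 2 ^ 10 * 3 ^ 3 * 5 ^ 2 * 7 ^ 3 * 17 by norm_num] at hd
    have := PBTools.mem_of_dvd hp [2, 3, 5, 7, 17] [10, 3, 2, 3, 1] (by decide) (by simpa using hd)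
    simpa [hp2] using this
  rcases hc with rfl | rfl | rfl | rfl
  · exact H434.EP.evAt_of_nb nb3 H289.Eight.He.deg_4352 (by norm_num) (by norm_num)
  · exact H434.EP.evAt_of_nb nb5 H289.Eight.He.deg_4352 (by norm_num) (by norm_num)
  · exact H434.EP.evAt_of_nb nb7 H289.Eight.He.deg_4352 (by norm_num) (by norm_num)
  · exact H434.EP.evAt_of_nb nb17 H678.DG.HeDegB.deg_1920 (by norm_num) (by norm_num)

/-- **The row of the Held group.** -/
theorem row_he : SpRow fun K => Spor.IsoHe K := by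
  intro K _ _ _ h
  obtain ⟨e⟩ := h
  have : Finite Cfsg.Spor.He := Nat.finite_of_card_ne_zero (by rw [PBHe.card_he]; norm_num)
  exact ev_he.tr e.symm

end He

/-! ### `Ru` -/

section five

/-- the centralizer of an element of order 5 in `S₅` -/
theorem sym5 : ∀ g h : Equiv.Perm (Fin 5), g ^ 5 = 1 → g ≠ 1 → h * g = g * h → h ^ 5 = 1 := by
  decide +kernel

theorem alt5 (g h : alternatingGroup (Fin 5)) (hg : g ^ 5 = 1) (h1 : g ≠ 1) (hh : h * g = g * h) : h ^ 5 = 1 :=
  Subtype.ext (sym5 g h (congrArg Subtype.val hg) (fun h2 => h1 (Subtype.ext h2)) (congrArg Subtype.val hh))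

/-- `x` of order 5 with `|C(x)| ≤ 300`, and `(2,3,5)` elements in `C(x)`: `C(⟨x, ab⟩)` is a 5-group -/
theorem five_of_cent {G : Type u} [Group G] [Finite G] {x a b : G} (hx : orderOf x = 5)
    (hC : Nat.card ↥(centralizer ({x} : Set G)) ≤ 300) (hax : a * x = x * a) (hbx : b * x = x * b)
    (ha : a ^ 2 = 1) (hb : b ^ 3 = 1) (hab : (a * b) ^ 5 = 1) (ha1 : a ≠ 1) {w : G} (hwx : w * x = x * w)
    (hwy : w * (a * b) = a * b * w) : w ^ 25 = 1 := by
  have : Fact (Nat.Prime 5) := ⟨by norm_num⟩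
  set C := centralizer ({x} : Set G) with hCd
  let a' : C := ⟨a, mem_centralizer_singleton_iff.2 hax⟩
  let b' : C := ⟨b, mem_centralizer_singleton_iff.2 hbx⟩
  let x' : C := ⟨x, mem_centralizer_singleton_iff.2 rfl⟩
  have hx' : orderOf x' = 5 := by rw [← hx, ← Subgroup.orderOf_coe]
  obtain ⟨e⟩ := Lib.VonDyck.closure_equiv_alternatingFive (a := a') (b := b') (Subtype.ext ha) (Subtype.ext hb)
    (Subtype.ext hab) (Or.inl fun h => ha1 (congrArg Subtype.val h))
  have hns : ¬ Group.IsSolvable C := by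
    intro h
    have h1 : Group.IsSolvable (closure {a', b'} : Subgroup C) :=
      Group.isSolvable_of_isSolvable_injective (f := (closure {a', b'} : Subgroup C).subtype) Subtype.val_injective
    have h2 : Group.IsSolvable (alternatingGroup (Fin 5)) :=
      Group.isSolvable_of_isSolvable_injective (f := e.symm.toMonoidHom) e.symm.injective
    have := alternatingGroup.isSimpleGroup (α := Fin 5) (by simp)
    have h3 := IsSimpleGroup.comm_iff_isSolvable.2 h2 H870.IMLocal.u5 Lib.VonDyck.b5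
    revert h3
    decide
  have hcen : zpowers x' ≤ center C := by
    rw [zpowers_le, mem_center_iff]
    intro y
    exact Subtype.ext (mem_centralizer_singleton_iff.1 y.2)
  have hN : (zpowers x').Normal := by
    constructor
    intro z hz g
    rw [mem_center_iff.1 (hcen hz) g, mul_inv_cancel_right]
    exact hz
  have hq : ¬ Group.IsSolvable (C ⧸ zpowers x') := by
    intro h
    apply hns
    have h1 : Group.IsSolvable (zpowers x') := Group.isSolvable_of_comm fun u v => by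
      apply Subtype.ext
      exact (mem_center_iff.1 (hcen v.2) u)
    exact Group.isSolvable_of_ker_le_range (zpowers x').subtype (QuotientGroup.mk' (zpowers x')) (by
      rw [QuotientGroup.ker_mk', Subgroup.range_subtype])
  have hcard : Nat.card C = Nat.card (C ⧸ zpowers x') * 5 := by
    rw [Subgroup.card_eq_card_quotient_mul_card_subgroup (zpowers x'), Nat.card_zpowers, hx']
  have h60 : Nat.card (C ⧸ zpowers x') = 60 := by
    apply le_antisymm
    · omega
    · by_contra hlt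
      push Not at hlt
      exact hq (H352.Order120.solvable_of_card_lt _ (C ⧸ zpowers x') rfl hlt)
  obtain ⟨f⟩ := H352.Order120.alt5_of_card_60 h60 hq
  let w' : C := ⟨w, mem_centralizer_singleton_iff.2 hwx⟩
  let F : C →* alternatingGroup (Fin 5) := f.toMonoidHom.comp (QuotientGroup.mk' (zpowers x'))
  have hF : ∀ c : C, F c = 1 → c ∈ zpowers x' := by
    intro c hc
    have h1 : f (QuotientGroup.mk' (zpowers x') c) = 1 := hc
    rw [map_eq_one_iff f f.injective] at h1
    rwa [← MonoidHom.mem_ker, QuotientGroup.ker_mk'] at h1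
  have hpow : ∀ c : C, F c = 1 → c ^ 5 = 1 := by
    intro c hc
    obtain ⟨k, hk⟩ := mem_zpowers_iff.1 (hF c hc)
    rw [← hk, ← zpow_natCast, ← zpow_mul, mul_comm, zpow_mul, zpow_natCast, ← hx', pow_orderOf_eq_one, one_zpow]
  have hy1 : F (a' * b') ≠ 1 := by
    intro h1
    have h2 := mem_center_iff.1 (hcen (hF _ h1)) a'
    -- `a` commutes with `a b`, so `a` commutes with `b`
    have h3 : a * (a * b) = a * b * a := congrArg Subtype.val h2
    have h4 : Commute a b := by
      have h5 : a * (a * b) = a * (b * a) := by rw [h3, mul_assoc]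
      exact mul_left_cancel h5
    have h5 : (a * b) ^ 6 = 1 := by
      rw [h4.mul_pow, show (6 : ℕ) = 2 * 3 by norm_num, pow_mul, ha, one_pow, one_mul, show (2 * 3 : ℕ) = 3 * 2 by norm_num,
        pow_mul, hb, one_pow]
    have h6 : a * b = 1 := by
      have h7 : (a * b) ^ 6 = (a * b) ^ 5 * (a * b) := pow_succ _ _
      rw [h5, hab, one_mul] at h7
      exact h7.symm
    apply ha1
    have h7 : a = b⁻¹ := mul_eq_one_iff_eq_inv.1 h6
    have h8 : a ^ 3 = 1 := by rw [h7, inv_pow, hb, inv_one]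
    have h9 : a ^ 3 = a ^ 2 * a := pow_succ _ _
    rw [h8, ha, one_mul] at h9
    exact h9.symm
  have h5 : F w' ^ 5 = 1 := by
    refine alt5 (F (a' * b')) (F w') ?_ hy1 ?_
    · rw [← map_pow]
      have : (a' * b') ^ 5 = 1 := Subtype.ext hab
      rw [this, map_one]
    · rw [← map_mul, ← map_mul]
      exact congrArg F (Subtype.ext hwy)
  have h6 : (w' ^ 5) ^ 5 = 1 := hpow _ (by rw [map_pow, h5])
  have h7 := congrArg Subtype.val h6
  have h8 : (w ^ 5) ^ 5 = 1 := h7
  rw [show (25 : ℕ) = 5 * 5 by norm_num, pow_mul]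
  exact h8

end five

section Ru

open Cfsg.Agent.SporadicB Cfsg.Agent.RuD.Letters Cfsg.Agent.SporRec.TCUpperCert
open Cfsg.Agent.KFacts.Ru Cfsg.Agent.KFacts.Ru.CentEng Cfsg.Agent.CpAutRuFive
open Cfsg.Agent.CpAutRuFive.Cert Cfsg.Agent.H870.IMRu

theorem nb_three : NB 3 1 RuOrder.H := by
  have := finite_H
  have h3 : Fact (Nat.Prime 3) := ⟨Nat.prime_three⟩
  obtain ⟨Q, hQ⟩ := H68.RatB.Ru.isPGroup_U.exists_le_sylow
  exact NB.of_sylow Q (H68.RatB.Ru.isPGroup_centralizer_U.to_le (Subgroup.centralizer_le hQ))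

theorem nb_five : NB 5 1 RuOrder.H := by
  have := finite_H
  have h5 : Fact (Nat.Prime 5) := ⟨by norm_num⟩
  have hr := rel_of_chk chkY
  have hY : wprod ml [5, 5] = (1 : RuOrder.H) := hr _ (by simp)
  have hB : wprod ml [0, 4, 0, 4, 0, 4] = (1 : RuOrder.H) := hr _ (by simp)
  have hYB : wprod ml [5, 0, 4, 5, 0, 4, 5, 0, 4, 5, 0, 4, 5, 0, 4] = (1 : RuOrder.H) := hr _ (by simp)
  have e1 : wprod ml [5, 5] = (wprod ml [5] : RuOrder.H) ^ 2 := by
    rw [show ([5, 5] : List ℕ) = [5] ++ [5] from rfl, wprod_append, pow_two]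
  have e2 : wprod ml [0, 4, 0, 4, 0, 4] = (wprod ml [0, 4] : RuOrder.H) ^ 3 := by
    rw [show ([0, 4, 0, 4, 0, 4] : List ℕ) = [0, 4] ++ ([0, 4] ++ [0, 4]) from rfl, wprod_append, wprod_append]
    simp only [pow_succ, pow_zero, one_mul, mul_assoc]
  have e3 : wprod ml [5, 0, 4, 5, 0, 4, 5, 0, 4, 5, 0, 4, 5, 0, 4] =
      ((wprod ml [5] : RuOrder.H) * wprod ml [0, 4]) ^ 5 := by
    rw [show ([5, 0, 4, 5, 0, 4, 5, 0, 4, 5, 0, 4, 5, 0, 4] : List ℕ) =
      ([5] ++ [0, 4]) ++ (([5] ++ [0, 4]) ++ (([5] ++ [0, 4]) ++ (([5] ++ [0, 4]) ++ ([5] ++ [0, 4])))) from rfl]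
    simp only [wprod_append]
    simp only [pow_succ, pow_zero, one_mul, mul_assoc]
  have hca := eq_of_chkEq chkCa
  have hcb := eq_of_chkEq chkCb
  rw [wprod_append, wprod_append] at hca hcb
  set a : RuOrder.H := wprod ml [5] with had
  set b : RuOrder.H := wprod ml [0, 4] with hbd
  set x : RuOrder.H := wprod ml wB with hxd
  have key : ∀ w : RuOrder.H, w * x = x * w → w * (a * b) = a * b * w → w ^ 25 = 1 := fun w h1 h2 =>
    five_of_cent orderB cardB hca hcb (e1.symm.trans hY) (e2.symm.trans hB) (e3.symm.trans hYB) ne_one h1 h2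
  have h5 : (a * b) ^ 5 = 1 := e3.symm.trans hYB
  have h1 : a * b ≠ 1 := by
    intro h6
    have h7 : a = b⁻¹ := mul_eq_one_iff_eq_inv.1 h6
    have h8 : a ^ 3 = 1 := by rw [h7, inv_pow, e2.symm.trans hB, inv_one]
    have h9 : a ^ 3 = a ^ 2 * a := pow_succ _ _
    rw [h8, e1.symm.trans hY, one_mul] at h9
    exact ne_one h9.symm
  have hxy : (a * b) * x = x * (a * b) := by rw [mul_assoc, hcb, ← mul_assoc, hca, mul_assoc]
  refine H394.PBTools.nb_of_pair (p := 5) (x := x) (y := a * b) orderB (orderOf_eq_prime h5 h1) hxy ?_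
  intro q hq hne hd
  have hqF : Fact q.Prime := ⟨hq⟩
  obtain ⟨w, hw⟩ := exists_prime_orderOf_dvd_card' q hd
  have h6 := key w (mem_centralizer_singleton_iff.1 w.2.1) (mem_centralizer_singleton_iff.1 w.2.2)
  have h7 : orderOf (w : RuOrder.H) ∣ 25 := orderOf_dvd_of_pow_eq_one h6
  rw [Subgroup.orderOf_coe, hw, show (25 : ℕ) = 5 ^ 2 by norm_num] at h7
  exact hne ((Nat.prime_dvd_prime_iff_eq hq (by norm_num)).1 (hq.dvd_of_dvd_pow h7))

theorem exists_406 : ∃ χ : IrrCharacter RuOrder.H, charDegree (χ : RuOrder.H → ℂ) = 406 := by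
  obtain ⟨χ, h1, -⟩ := H68.RatB.Ru.exists_406
  let e : RuOrder.H ≃* Spor.Ru := RuLat.Main.equiv.symm
  have hir : IsIrrCharacter RuOrder.H (fun x => (χ : Spor.Ru → ℂ) (e x)) :=
    isIrr_comp e.toMonoidHom e.surjective χ.2
  refine ⟨⟨_, hir⟩, ?_⟩
  apply Blocks.Basic.charDegree_of_eq
  show (χ : Spor.Ru → ℂ) (e 1) = _
  rw [map_one, h1]

end Ru

section real

open Cfsg.Agent.SporadicB Cfsg.Agent.OddHalf.Table.OutRu Cfsg.Agent.H852.RealRank Cfsg.Agent.H852.RealRu

/-- a real element of order `p` from a product of two involutions -/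
theorem real_of_words (hfin : Finite RuOrder.H) {p : ℕ} (hp : p.Prime) (u : List ℕ) (k : ℕ) (i : Fin 4060)
    (h0 : eqw (u ++ u) [] = true) (h1 : Nat.beq (ev (rep (p * k) (4 :: u)) i.val) i.val = true)
    (h2 : Nat.beq (ev (rep k (4 :: u)) i.val) i.val = false) : ∃ g : RuOrder.H, orderOf g = p ∧ IsConj g g⁻¹ := by
  have ht : W u * W u = 1 := by
    rw [← W_append, eqw_sound h0, W_nil]
  have hs : W [4] * W [4] = 1 := by rw [W_y, y_sq]
  have hu : W [4] * W u = W (4 :: u) := by rw [← W_append]; rfl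
  set s := W [4] with hsd
  set t := W u with htd
  have hd : p ∣ orderOf (s * t) := by
    refine (dvd_of_period (σ := RuOrder.H.subtype (s * t)) (p := p) (k := k) (i := i) hp ?_ ?_).trans
      (orderOf_map_dvd _ _)
    · rw [hu]
      apply Fin.ext
      rw [pow_apply]
      exact Nat.eq_of_beq_eq_true h1
    · rw [hu]
      intro h
      have h3 := congrArg Fin.val h
      rw [pow_apply] at h3
      rw [h3, Nat.beq_refl] at h2
      exact Bool.noConfusion h2
  obtain ⟨n, hn⟩ := hd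
  have hpos := orderOf_pos (s * t)
  have hn0 : n ≠ 0 := by
    rintro rfl
    omega
  have hs' : s⁻¹ = s := inv_eq_of_mul_eq_one_right hs
  have ht' : t⁻¹ = t := inv_eq_of_mul_eq_one_right ht
  refine ⟨(s * t) ^ n, ?_, ?_⟩
  · rw [orderOf_pow_of_dvd hn0 ⟨p, by rw [hn]; ring⟩, hn]
    exact Nat.mul_div_cancel _ (Nat.pos_of_ne_zero hn0)
  · rw [isConj_iff]
    refine ⟨s, ?_⟩
    rw [← conj_pow, ← inv_pow]
    congr 1
    rw [mul_inv_rev, hs', ht', ← mul_assoc, hs, one_mul]

theorem ev_ru : Ev RuOrder.H := by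
  intro p hp hp2 hd
  have hc : Nat.card RuOrder.H = 145926144000 := RuOrder.card_H
  have hfin : Finite RuOrder.H := Nat.finite_of_card_ne_zero (by rw [hc]; norm_num)
  have hpF : Fact p.Prime := ⟨hp⟩
  rw [hc] at hd
  have hm := Cfsg.Agent.H852.IMSuz.prime_cases' hp [2, 3, 5, 7, 13, 29] (by decide) 14 hd (by norm_num)
  simp only [List.mem_cons, List.not_mem_nil, or_false] at hm
  rcases hm with rfl | rfl | rfl | rfl | rfl | rfl
  · exact absurd rfl hp2
  · exact H434.EP.evAt_of_nb nb_three exists_406 (by norm_num) (by norm_num)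
  · exact H434.EP.evAt_of_nb nb_five exists_406 (by norm_num) (by norm_num)
  · obtain ⟨z, hz, hr⟩ := real_of_words hfin hp [1, 4, 1, 2, 1, 4, 0, 3, 0, 4, 0] 1 ⟨0, by norm_num⟩
      (by decide +kernel) (by decide +kernel) (by decide +kernel)
    exact evAt_of_real_sq (by norm_num) (by rw [hc]; norm_num) hz hr
  · obtain ⟨z, hz, hr⟩ := real_of_words hfin hp [0, 4, 2, 0, 4, 1, 3, 4, 1] 1 ⟨0, by norm_num⟩
      (by decide +kernel) (by decide +kernel) (by decide +kernel)
    exact evAt_of_real_sq (by norm_num) (by rw [hc]; norm_num) hz hr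
  · obtain ⟨z, hz, hr⟩ := real_of_words hfin hp [1, 1, 4, 0, 0] 1 ⟨0, by norm_num⟩
      (by decide +kernel) (by decide +kernel) (by decide +kernel)
    exact evAt_of_real_sq (by norm_num) (by rw [hc]; norm_num) hz hr

/-- **The row of the Rudvalis group.** -/
theorem row_ru : SpRow fun K => Spor.IsoRu K := by
  intro K _ _ _ h
  obtain ⟨e⟩ := h
  have : Finite RuOrder.H := Nat.finite_of_card_ne_zero (by rw [RuOrder.card_H]; norm_num)
  exact ev_ru.tr (e.trans Cfsg.Agent.RuLat.Main.equiv).symm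

end real

end Cfsg.Agent.H541.EP
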